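import Cfsg.Agent.H202.T.Psl2
import Cfsg.Agent.H104.TSp
import Cfsg.Agent.H102.TPsl
import Cfsg.Agent.H901.TOrth
import Cfsg.Agent.H377.TSpor.Main
import Cfsg.Agent.H892.TExcB
import Cfsg.Agent.H458.TPsu

/-!
# Block T (S3537): the list of the simple groups satisfying `T4` (helper202)
-/

set_option autoImplicit false

namespace Cfsg.Agent.H202.T

open Cfsg.Agent.OrdDiv Cfsg.Agent.H436

/-- **The simple groups with `T4`.** -/
theorem cases_of_T4 {p q : ℕ} {S : Type*} [Group S] [Finite S] (h : T4 p q S) {g : Grp} (hg : IsNamed g S) :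
    g = .psp 4 q ∨ g = .oodd 4 q ∨ g = .ominus 4 q ∨ (p = 3 ∧ q = 3 ∧ g = .psl 2 41) := by
  cases g with
  | alt n => exact (H377.TSpor.alt h hg).elim
  | psl n u =>
    obtain ⟨hn, -, -⟩ := hg.cond
    rcases eq_or_lt_of_le hn with rfl | h3
    · obtain ⟨h1, h2, rfl⟩ := psl2 h hg
      exact Or.inr (Or.inr (Or.inr ⟨h1, h2, rfl⟩))
    · exact (H102.TPsl.psl h hg h3).elim
  | psp n u =>
    obtain ⟨rfl, rfl⟩ := H104.TSp.psp h hg
    exact Or.inl rfl
  | psu n u => exact (H458.TPsu.psu h hg).elim
  | oodd n u =>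
    obtain ⟨rfl, rfl⟩ := H104.TSp.oodd h hg
    exact Or.inr (Or.inl rfl)
  | oplus n u => exact (H901.TOrth.oplus h hg).elim
  | ominus n u =>
    obtain ⟨rfl, rfl⟩ := H901.TOrth.ominus h hg
    exact Or.inr (Or.inr (Or.inl rfl))
  | g2 u => exact (H892.TExc.g2 h hg).elim
  | f4 u => exact (H892.TExc.f4 h hg).elim
  | e6 u => exact (H892.TExc.e6 h hg).elim
  | e7 u => exact (H892.TExc.e7 h hg).elim
  | e8 u => exact (H892.TExc.e8 h hg).elim
  | te6 u => exact (H892.TExc.te6 h hg).elim
  | td4 u => exact (H892.TExc.td4 h hg).elim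
  | sz u => exact (H892.TExc.sz h hg).elim
  | ree u => exact (H892.TExc.ree h hg).elim
  | tf4 u => exact (H892.TExc.tf4 h hg).elim
  | tits => exact (H377.TSpor.tits h hg).elim
  | m11 => exact (H377.TSpor.spor_of (by decide) h hg).elim
  | m12 => exact (H377.TSpor.spor_of (by decide) h hg).elim
  | m22 => exact (H377.TSpor.spor_of (by decide) h hg).elim
  | m23 => exact (H377.TSpor.spor_of (by decide) h hg).elim
  | m24 => exact (H377.TSpor.spor_of (by decide) h hg).elim
  | j1 => exact (H377.TSpor.spor_of (by decide) h hg).elim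
  | j2 => exact (H377.TSpor.spor_of (by decide) h hg).elim
  | j3 => exact (H377.TSpor.spor_of (by decide) h hg).elim
  | j4 => exact (H377.TSpor.spor_of (by decide) h hg).elim
  | co1 => exact (H377.TSpor.spor_of (by decide) h hg).elim
  | co2 => exact (H377.TSpor.spor_of (by decide) h hg).elim
  | co3 => exact (H377.TSpor.spor_of (by decide) h hg).elim
  | mcl => exact (H377.TSpor.spor_of (by decide) h hg).elim
  | hs => exact (H377.TSpor.spor_of (by decide) h hg).elim
  | suz => exact (H377.TSpor.spor_of (by decide) h hg).elim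
  | he => exact (H377.TSpor.spor_of (by decide) h hg).elim
  | ru => exact (H377.TSpor.spor_of (by decide) h hg).elim
  | on => exact (H377.TSpor.spor_of (by decide) h hg).elim
  | ly => exact (H377.TSpor.spor_of (by decide) h hg).elim
  | fi22 => exact (H377.TSpor.spor_of (by decide) h hg).elim
  | fi23 => exact (H377.TSpor.spor_of (by decide) h hg).elim
  | fi24 => exact (H377.TSpor.spor_of (by decide) h hg).elim
  | hn => exact (H377.TSpor.spor_of (by decide) h hg).elim
  | th => exact (H377.TSpor.spor_of (by decide) h hg).elim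
  | b => exact (H377.TSpor.spor_of (by decide) h hg).elim
  | m => exact (H377.TSpor.spor_of (by decide) h hg).elim

end Cfsg.Agent.H202.T
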