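import Cfsg.Agent.H202.T.Num
import Cfsg.Agent.H160.QEnum

/-!
# Block T: enumeration of the root multisets of isometries in dimensions 8 and 9 (helper202)

* `Inv0 q R` : the multiset `R` of nonzero elements is invariant under `x ↦ x ^ q` and `x ↦ x⁻¹`;
* `enum` : for `|R| = 8` or `9`, either `R` is (up to one element `±1`) one orbit of length 8, or all elements are
  `N`-th roots of unity with multiplicities at most `p ^ c` and `InL p q (N * p ^ c)`.
-/

set_option autoImplicit false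
set_option linter.unusedSectionVars false

namespace Cfsg.Agent.H202.T

open Cfsg.Agent.H160.QRoots

section

variable {K : Type*} [Field K] [DecidableEq K] {q : ℕ}

/-- invariance under Frobenius and inversion -/
structure Inv0 (q : ℕ) (R : Multiset K) : Prop where
  frob : ∀ x, R.count (x ^ q) = R.count x
  inv : ∀ x, R.count x⁻¹ = R.count x
  ne0 : ∀ x ∈ R, x ≠ 0

theorem dvd_add_half {e : ℕ} (he : q = 2 * e + 1) : q + 1 ∣ (q ^ 2 + 1) * ((q + 1) / 2) := by
  subst he
  rw [show (2 * e + 1 + 1) / 2 = e + 1 by omega]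
  exact ⟨2 * e ^ 2 + 2 * e + 1, by ring⟩

theorem dvd_sub_half {e : ℕ} (he : q = 2 * e + 1) : q - 1 ∣ (q ^ 2 + 1) * ((q - 1) / 2) := by
  subst he
  rw [show (2 * e + 1 - 1) / 2 = e by omega, show 2 * e + 1 - 1 = 2 * e by omega]
  exact ⟨2 * e ^ 2 + 2 * e + 1, by ring⟩

theorem dvd_add_half3 {e : ℕ} (he : q = 2 * e + 1) : q + 1 ∣ (q ^ 3 - 1) * ((q + 1) / 2) := by
  subst he
  rw [show (2 * e + 1 + 1) / 2 = e + 1 by omega]
  have : (2 * e + 1) ^ 3 - 1 = 2 * (4 * e ^ 3 + 6 * e ^ 2 + 3 * e) := by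
    have : (2 * e + 1) ^ 3 = 2 * (4 * e ^ 3 + 6 * e ^ 2 + 3 * e) + 1 := by ring
    omega
  rw [this]
  exact ⟨4 * e ^ 3 + 6 * e ^ 2 + 3 * e, by ring⟩

theorem dvd_sub_half3 {e : ℕ} (he : q = 2 * e + 1) : q - 1 ∣ (q ^ 3 + 1) * ((q - 1) / 2) := by
  subst he
  rw [show (2 * e + 1 - 1) / 2 = e by omega, show 2 * e + 1 - 1 = 2 * e by omega]
  exact ⟨4 * e ^ 3 + 6 * e ^ 2 + 3 * e + 1, by ring⟩

variable {R : Multiset K} (hq : Function.Injective (fun x : K => x ^ q)) (hq0 : 0 < q)
include hq hq0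

theorem even_card : ∀ (n : ℕ) (R : Multiset K), R.card = n → Inv q R → Even n := by
  intro n
  induction n using Nat.strong_induction_on with
  | _ n ih =>
    intro R hn h
    rcases Nat.eq_zero_or_pos n with h0 | h0
    · rw [h0]; exact Even.zero
    · obtain ⟨μ, hμ⟩ := Multiset.card_pos_iff_exists_mem.1 (by omega : 0 < R.card)
      obtain ⟨d, hd⟩ := exists_isMin hq h hμ
      obtain ⟨R', -, h4, -, -, h7⟩ := peel hq h hd
      have h1 : 1 ≤ R.count μ := Multiset.one_le_count_iff_mem.2 hμ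
      have h2 := hd.pos
      have h8 : 0 < R.count μ * (2 * d) := by positivity
      have h3 := ih R'.card (by omega) R' rfl h4
      rw [hn] at h7
      rw [h7]
      exact (even_two.mul_right d |>.mul_left _).add h3

theorem three' {e : ℕ} (he : q = 2 * e + 1) (h : Inv q R) (hc : R.card = 6) :
    Bd R 1 (q ^ 3 - 1) ∨ Bd R 1 (q ^ 3 + 1) ∨ Bd R 1 ((q ^ 2 + 1) * ((q + 1) / 2)) ∨
      Bd R 1 ((q ^ 2 + 1) * ((q - 1) / 2)) ∨ Bd R 3 (q ^ 2 - 1) := by
  by_cases hbig : ∃ μ ∈ R, ∃ d, IsMin q μ d ∧ 3 ≤ d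
  · obtain ⟨μ, hμ, d, hd, h3d⟩ := hbig
    have h1 := d_le hq h hd hμ
    obtain rfl : d = 3 := by omega
    obtain ⟨R', h3, h4, h5, h6, h7⟩ := peel hq h hd
    have h8 : 1 ≤ R.count μ := Multiset.one_le_count_iff_mem.2 hμ
    have h9 : R.count μ = 1 := by omega
    have hR' : R'.card = 0 := by omega
    rw [Multiset.card_eq_zero] at hR'
    have hmem : ∀ x ∈ R, x ∈ orb q μ 3 := by
      intro x hx
      by_contra hno
      have := (h5 x).2 ⟨hx, hno⟩
      rw [hR'] at this
      exact Multiset.notMem_zero x this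
    have hcnt : ∀ x, R.count x ≤ 1 := by
      intro x
      by_cases hx : x ∈ R
      · rw [count_orb h (hmem x hx), h9]
      · rw [Multiset.count_eq_zero_of_notMem hx]; omega
    rcases hd.pow hq0 with h10 | h10
    · exact Or.inl ⟨hcnt, fun x hx => ex_orb (hmem x hx) h10⟩
    · exact Or.inr (Or.inl ⟨hcnt, fun x hx => ex_orb (hmem x hx) h10⟩)
  · push Not at hbig
    have hd2 : ∀ x ∈ R, ∀ d, IsMin q x d → d ≤ 2 := fun x hx d hd => by
      have := hbig x hx d hd; omega
    right; right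
    rcases small_cases hq hq0 h hd2 with ⟨μ, hμ, hd, h1⟩ | h1
    · obtain ⟨R', h3, h4, h5, h6, h7⟩ := peel hq h hd
      have h8 : 1 ≤ R.count μ := Multiset.one_le_count_iff_mem.2 hμ
      have h9 : R.count μ = 1 := by omega
      have hR' : R'.card = 2 := by omega
      have hcnt : ∀ x, R.count x ≤ 1 := by
        intro x
        by_cases hx : x ∈ R
        · by_cases hxo : x ∈ orb q μ 2
          · rw [count_orb h hxo, h9]
          · rw [← h6 x ((h5 x).2 ⟨hx, hxo⟩)]
            have := cnt_le hq h4 x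
            omega
        · rw [Multiset.count_eq_zero_of_notMem hx]; omega
      rcases one hq hq0 h4 hR' with h10 | h10
      · right; left
        refine ⟨hcnt, fun x hx => ?_⟩
        by_cases hxo : x ∈ orb q μ 2
        · exact pow_dvd (ex_orb hxo h1) (Dvd.intro _ rfl)
        · exact pow_dvd (h10.ex x ((h5 x).2 ⟨hx, hxo⟩)) (dvd_sub_half he)
      · left
        refine ⟨hcnt, fun x hx => ?_⟩
        by_cases hxo : x ∈ orb q μ 2
        · exact pow_dvd (ex_orb hxo h1) (Dvd.intro _ rfl)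
        · exact pow_dvd (h10.ex x ((h5 x).2 ⟨hx, hxo⟩)) (dvd_add_half he)
    · right; right
      exact ⟨fun x => by have := cnt_le hq h x; omega, h1⟩

theorem four' {e : ℕ} (he : q = 2 * e + 1) (h : Inv q R) (hc : R.card = 8) :
    (∃ μ, IsMin q μ 4 ∧ R = (orb q μ 4).val) ∨ Bd R 1 (q ^ 3 - 1) ∨ Bd R 1 (q ^ 3 + 1) ∨
      Bd R 1 ((q ^ 3 + 1) * ((q - 1) / 2)) ∨ Bd R 1 ((q ^ 3 - 1) * ((q + 1) / 2)) ∨
      Bd R 1 ((q ^ 4 - 1) / 2) ∨ Bd R 2 (q ^ 2 + 1) ∨ Bd R 2 ((q ^ 2 + 1) * ((q + 1) / 2)) ∨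
      Bd R 2 ((q ^ 2 + 1) * ((q - 1) / 2)) ∨ Bd R 3 (q ^ 2 - 1) ∨ Bd R 4 (q - 1) ∨ Bd R 4 (q + 1) := by
  by_cases hbig : ∃ μ ∈ R, ∃ d, IsMin q μ d ∧ 4 ≤ d
  · obtain ⟨μ, hμ, d, hd, h3d⟩ := hbig
    have h1 := d_le hq h hd hμ
    obtain rfl : d = 4 := by omega
    obtain ⟨R', h3, h4, h5, h6, h7⟩ := peel hq h hd
    have h8 : 1 ≤ R.count μ := Multiset.one_le_count_iff_mem.2 hμ
    have h9 : R.count μ = 1 := by omega
    have hR' : R'.card = 0 := by omega
    rw [Multiset.card_eq_zero] at hR'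
    rw [h9, one_nsmul, hR', add_zero] at h3
    exact Or.inl ⟨μ, hd, h3⟩
  · push Not at hbig
    right
    by_cases hbig3 : ∃ μ ∈ R, ∃ d, IsMin q μ d ∧ 3 ≤ d
    · obtain ⟨μ, hμ, d, hd, h3d⟩ := hbig3
      have h1 := hbig μ hμ d hd
      obtain rfl : d = 3 := by omega
      obtain ⟨R', h3, h4, h5, h6, h7⟩ := peel hq h hd
      have h8 : 1 ≤ R.count μ := Multiset.one_le_count_iff_mem.2 hμ
      have h9 : R.count μ = 1 := by omega
      have hR' : R'.card = 2 := by omega
      have hcnt : ∀ x, R.count x ≤ 1 := by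
        intro x
        by_cases hx : x ∈ R
        · by_cases hxo : x ∈ orb q μ 3
          · rw [count_orb h hxo, h9]
          · rw [← h6 x ((h5 x).2 ⟨hx, hxo⟩)]
            have := cnt_le hq h4 x
            omega
        · rw [Multiset.count_eq_zero_of_notMem hx]; omega
      have key : ∀ N a b : ℕ, μ ^ a = 1 → a ∣ N → Bd R' 1 b → b ∣ N → Bd R 1 N := by
        intro N a b ha haN hb hbN
        refine ⟨hcnt, fun x hx => ?_⟩
        by_cases hxo : x ∈ orb q μ 3
        · exact pow_dvd (ex_orb hxo ha) haN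
        · exact pow_dvd (hb.ex x ((h5 x).2 ⟨hx, hxo⟩)) hbN
      rcases hd.pow hq0 with h10 | h10 <;> rcases one hq hq0 h4 hR' with h11 | h11
      · exact Or.inl (key _ _ _ h10 dvd_rfl h11 (H160.QRoots.sub_one_dvd q 3))
      · exact Or.inr (Or.inr (Or.inr (Or.inl (key _ _ _ h10 (Dvd.intro _ rfl) h11 (dvd_add_half3 he)))))
      · exact Or.inr (Or.inr (Or.inl (key _ _ _ h10 (Dvd.intro _ rfl) h11 (dvd_sub_half3 he))))
      · exact Or.inr (Or.inl (key _ _ _ h10 dvd_rfl h11 (add_one_dvd_cube q)))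
    · push Not at hbig3
      have hd2 : ∀ x ∈ R, ∀ d, IsMin q x d → d ≤ 2 := fun x hx d hd => by
        have := hbig3 x hx d hd; omega
      right; right; right; right
      rcases small_cases hq hq0 h hd2 with ⟨μ, hμ, hd, h1⟩ | h1
      · obtain ⟨R', h3, h4, h5, h6, h7⟩ := peel hq h hd
        have h8 : 1 ≤ R.count μ := Multiset.one_le_count_iff_mem.2 hμ
        by_cases h9 : R.count μ = 1
        · by_cases hone : ∀ x, R.count x ≤ 1
          · exact Or.inl ⟨hone, half_ex hq hq0 he h hd2⟩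
          · push Not at hone
            obtain ⟨x, hx2⟩ := hone
            have hx : x ∈ R := Multiset.one_le_count_iff_mem.1 (by omega)
            have hxo : x ∉ orb q μ 2 := by
              intro hxo
              rw [count_orb h hxo, h9] at hx2
              omega
            have hxR' : x ∈ R' := (h5 x).2 ⟨hx, hxo⟩
            obtain ⟨d', hd'⟩ := exists_isMin hq h4 hxR'
            have h10 := dm_le hq h4 hd'
            rw [h6 x hxR'] at h10
            have h11 := hd'.pos
            have h12 : R'.card = 4 := by omega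
            have h13 : d' = 1 := by nlinarith
            subst h13
            have h14 : R.count x = 2 := by omega
            obtain ⟨R'', k3, k4, k5, k6, k7⟩ := peel hq h4 hd'
            rw [h6 x hxR', h14] at k3 k7
            have hR'' : R''.card = 0 := by omega
            rw [Multiset.card_eq_zero] at hR''
            have hmem : ∀ y ∈ R, y ∈ orb q μ 2 ∨ y ∈ orb q x 1 := by
              intro y hy
              by_cases hyo : y ∈ orb q μ 2
              · exact Or.inl hyo
              · right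
                by_contra hno
                have := (k5 y).2 ⟨(h5 y).2 ⟨hy, hyo⟩, hno⟩
                rw [hR''] at this
                exact Multiset.notMem_zero y this
            have hcnt : ∀ y, R.count y ≤ 2 := by
              intro y
              by_cases hy : y ∈ R
              · rcases hmem y hy with hy1 | hy1
                · rw [count_orb h hy1, h9]; omega
                · rw [count_orb h hy1, h14]
              · rw [Multiset.count_eq_zero_of_notMem hy]; omega
            have key : ∀ N a b : ℕ, μ ^ a = 1 → a ∣ N → x ^ b = 1 → b ∣ N → Bd R 2 N := by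
              intro N a b ha haN hb hbN
              refine ⟨hcnt, fun y hy => ?_⟩
              rcases hmem y hy with hy1 | hy1
              · exact pow_dvd (ex_orb hy1 ha) haN
              · exact pow_dvd (ex_orb hy1 hb) hbN
            rcases hd'.pow hq0 with h15 | h15
            · rw [_root_.pow_one] at h15
              exact Or.inr (Or.inr (Or.inr (Or.inl (key _ _ _ h1 (Dvd.intro _ rfl) h15 (dvd_sub_half he)))))
            · rw [_root_.pow_one] at h15
              exact Or.inr (Or.inr (Or.inl (key _ _ _ h1 (Dvd.intro _ rfl) h15 (dvd_add_half he))))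
        · right; left
          have h10 : R.count μ = 2 := by omega
          rw [h10] at h7
          have hR' : R'.card = 0 := by omega
          rw [Multiset.card_eq_zero] at hR'
          have hmem : ∀ x ∈ R, x ∈ orb q μ 2 := by
            intro x hx
            by_contra hno
            have := (h5 x).2 ⟨hx, hno⟩
            rw [hR'] at this
            exact Multiset.notMem_zero x this
          refine ⟨fun x => ?_, fun x hx => ex_orb (hmem x hx) h1⟩
          by_cases hx : x ∈ R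
          · rw [count_orb h (hmem x hx), h10]
          · rw [Multiset.count_eq_zero_of_notMem hx]; omega
      · right; right; right; right
        by_cases hc3 : ∀ x, R.count x ≤ 3
        · exact Or.inl ⟨hc3, h1⟩
        · push Not at hc3
          obtain ⟨μ, hμ3⟩ := hc3
          have hμ : μ ∈ R := Multiset.one_le_count_iff_mem.1 (by omega)
          obtain ⟨d, hd⟩ := exists_isMin hq h hμ
          have h2 := dm_le hq h hd
          have h3 := hd.pos
          have h4 : d = 1 := by nlinarith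
          subst h4
          have h5 : R.count μ = 4 := by omega
          obtain ⟨R', k3, k4, k5, k6, k7⟩ := peel hq h hd
          have hR' : R'.card = 0 := by omega
          rw [Multiset.card_eq_zero] at hR'
          have hmem : ∀ x ∈ R, x ∈ orb q μ 1 := by
            intro x hx
            by_contra hno
            have := (k5 x).2 ⟨hx, hno⟩
            rw [hR'] at this
            exact Multiset.notMem_zero x this
          have hcnt : ∀ x, R.count x ≤ 4 := fun x => by have := cnt_le hq h x; omega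
          right
          rcases hd.pow hq0 with h9 | h9
          · exact Or.inl ⟨hcnt, fun x hx => ex_orb (hmem x hx) (by rwa [_root_.pow_one] at h9)⟩
          · exact Or.inr ⟨hcnt, fun x hx => ex_orb (hmem x hx) (by rwa [_root_.pow_one] at h9)⟩

/-- the elements different from their inverses -/
theorem Inv0.filter (h : Inv0 q R) : Inv q (R.filter fun x => x ≠ x⁻¹) where
  frob x := by
    have e : x ^ q ≠ (x ^ q)⁻¹ ↔ x ≠ x⁻¹ := by
      rw [not_iff_not]
      constructor
      · intro h1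
        apply hq
        change x ^ q = x⁻¹ ^ q
        rw [inv_pow]; exact h1
      · intro h1
        rw [← inv_pow, ← h1]
    by_cases hx : x ≠ x⁻¹
    · rw [Multiset.count_filter_of_pos (p := fun x => x ≠ x⁻¹) (e.2 hx),
        Multiset.count_filter_of_pos (p := fun x => x ≠ x⁻¹) hx, h.frob]
    · rw [Multiset.count_filter_of_neg (p := fun x => x ≠ x⁻¹) (fun h1 => hx (e.1 h1)),
        Multiset.count_filter_of_neg (p := fun x => x ≠ x⁻¹) hx]
  inv x := by
    have e : x⁻¹ ≠ (x⁻¹)⁻¹ ↔ x ≠ x⁻¹ := by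
      rw [inv_inv]
      exact ne_comm
    by_cases hx : x ≠ x⁻¹
    · rw [Multiset.count_filter_of_pos (p := fun x => x ≠ x⁻¹) (e.2 hx),
        Multiset.count_filter_of_pos (p := fun x => x ≠ x⁻¹) hx, h.inv]
    · rw [Multiset.count_filter_of_neg (p := fun x => x ≠ x⁻¹) (fun h1 => hx (e.1 h1)),
        Multiset.count_filter_of_neg (p := fun x => x ≠ x⁻¹) hx]
  ne0 x hx := h.ne0 x (Multiset.mem_of_mem_filter hx)
  ne1 x hx := (Multiset.mem_filter.1 hx).2

omit hq hq0 in
/-- adding the elements equal to their inverses -/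
theorem comb (h : Inv0 q R) {M N P : ℕ} (h0 : Bd (R.filter fun x => x ≠ x⁻¹) M N) (hN : Even N) (hM : M ≤ P)
    (hP : R.card ≤ P + (R.filter fun x => x ≠ x⁻¹).card) : Bd R P N where
  cnt x := by
    by_cases hx : x ≠ x⁻¹
    · have := h0.cnt x
      rw [Multiset.count_filter_of_pos (p := fun x => x ≠ x⁻¹) hx] at this
      omega
    · have h1 := congrArg Multiset.card (Multiset.filter_add_not (fun x => x ≠ x⁻¹) R)
      rw [Multiset.card_add] at h1
      have h2 : R.count x = (R.filter fun x => ¬ x ≠ x⁻¹).count x :=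
        (Multiset.count_filter_of_pos (p := fun x => ¬ x ≠ x⁻¹) hx).symm
      have h3 := Multiset.count_le_card x (R.filter fun x => ¬ x ≠ x⁻¹)
      omega
  ex x hx := by
    by_cases h1 : x ≠ x⁻¹
    · exact h0.ex x (Multiset.mem_filter.2 ⟨hx, h1⟩)
    · rw [ne_eq, not_not] at h1
      have h2 : x ^ 2 = 1 := by
        rw [pow_two]
        nth_rw 2 [h1]
        exact mul_inv_cancel₀ (h.ne0 x hx)
      obtain ⟨k, rfl⟩ := hN
      rw [← two_mul, pow_mul, h2, one_pow]

/-- **Enumeration.** -/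
theorem enum {p : ℕ} (hp : p.Prime) (hp2 : p ≠ 2) (hqo : Odd q) (h : Inv0 q R) (hc : R.card = 8 ∨ R.card = 9) :
    (∃ μ, IsMin q μ 4 ∧ (R.filter fun x => x ≠ x⁻¹) = (orb q μ 4).val) ∨
      ∃ N c : ℕ, Bd R (p ^ c) N ∧ InL p q (N * p ^ c) := by
  obtain ⟨e, he⟩ := hqo
  have hI := Inv0.filter hq hq0 h
  have hle : (R.filter fun x => x ≠ x⁻¹).card ≤ R.card := Multiset.card_le_card (Multiset.filter_le _ _)
  have hev := even_card hq hq0 _ _ rfl hI
  have hp3 : 3 ≤ p := by have := hp.two_le; omega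
  have hpc : p = 3 ∨ p = 5 ∨ p = 7 ∨ 9 ≤ p := by
    by_contra hcon
    push Not at hcon
    have : p = 4 ∨ p = 6 ∨ p = 8 := by omega
    rcases this with rfl | rfl | rfl <;> revert hp <;> decide
  -- parities
  have hqo : Odd q := ⟨e, he⟩
  have ev2 : Even (q ^ 2 + 1) := hqo.pow.add_one
  have ev2' : Even (q ^ 2 - 1) := Nat.Odd.sub_odd hqo.pow odd_one
  have ev3 : Even (q ^ 3 + 1) := hqo.pow.add_one
  have ev3' : Even (q ^ 3 - 1) := Nat.Odd.sub_odd hqo.pow odd_one
  have evp : Even (q + 1) := hqo.add_one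
  have evm : Even (q - 1) := Nat.Odd.sub_odd hqo odd_one
  have ev4 : Even ((q ^ 4 - 1) / 2) := by
    rw [half_eq hqo]
    exact even_iff_two_dvd.2 ((by norm_num : 2 ∣ 8).trans (dvd_half hqo).2.2.2.2.2.2)
  have hsq : q ^ 2 - 1 = (q + 1) * (q - 1) := by simpa using Nat.sq_sub_sq q 1
  have dp2 : q + 1 ∣ q ^ 2 - 1 := ⟨_, hsq⟩
  have dm2 : q - 1 ∣ q ^ 2 - 1 := ⟨q + 1, by rw [hsq, mul_comm]⟩
  have d12 : q ^ 2 + 1 ∣ (q ^ 2 + 1) * ((q + 1) / 2) := Dvd.intro _ rfl
  obtain ⟨n, hn⟩ : ∃ n, (R.filter fun x => x ≠ x⁻¹).card = n := ⟨_, rfl⟩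
  rw [hn] at hle hev
  have hn9 : n ≤ 9 := by omega
  have hcases : n = 0 ∨ n = 2 ∨ n = 4 ∨ n = 6 ∨ n = 8 := by
    obtain ⟨k, hk⟩ := hev
    omega
  have cb : ∀ (M N c : ℕ), Bd (R.filter fun x => x ≠ x⁻¹) M N → Even N → M ≤ p ^ c → 9 ≤ p ^ c + n →
      InL p q (N * p ^ c) → ∃ N c : ℕ, Bd R (p ^ c) N ∧ InL p q (N * p ^ c) := fun M N c h0 hN hM hP hI =>
    ⟨N, c, comb h h0 hN hM (by rw [hn]; omega), hI⟩
  rcases hcases with rfl | rfl | rfl | rfl | rfl
  · -- only `±1`
    right
    rw [Multiset.card_eq_zero] at hn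
    have hB : Bd (R.filter fun x => x ≠ x⁻¹) 0 2 := by
      rw [hn]
      exact ⟨fun x => by simp, fun x hx => absurd hx (Multiset.notMem_zero x)⟩
    rcases hpc with rfl | rfl | rfl | h9
    · refine cb 0 2 2 hB even_two (by norm_num) (by norm_num) ?_
      exact Or.inr (Or.inr (Or.inr (Or.inr (Or.inr (Or.inr (Or.inr (Or.inr (Or.inr (Or.inl ⟨rfl, Or.inr (by
        rw [mul_comm]; exact Nat.mul_dvd_mul_left _ (even_iff_two_dvd.1 ev2'))⟩)))))))))
    · refine cb 0 2 2 hB even_two (by norm_num) (by norm_num) ?_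
      exact Or.inr (Or.inr (Or.inr (Or.inr (Or.inr (Or.inr (Or.inr (Or.inr (Or.inr (Or.inr (Or.inl ⟨rfl, Or.inl (by
        rw [mul_comm]; exact Nat.mul_dvd_mul_left _ (even_iff_two_dvd.1 evp))⟩))))))))))
    · refine cb 0 2 2 hB even_two (by norm_num) (by norm_num) ?_
      exact Or.inr (Or.inr (Or.inr (Or.inr (Or.inr (Or.inr (Or.inr (Or.inr (Or.inr (Or.inr (Or.inr
        ⟨rfl, by norm_num⟩))))))))))
    · refine cb 0 2 1 hB even_two (by simp) (by simpa using h9) ?_
      refine Or.inr (Or.inr (Or.inr (Or.inr (Or.inr (Or.inr (Or.inr (Or.inr (Or.inl ?_))))))))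
      rw [pow_one, mul_comm]; exact Nat.mul_dvd_mul_left _ (even_iff_two_dvd.1 ev2')
  · -- two elements
    right
    rcases one hq hq0 hI hn with hB | hB
    · rcases hpc with rfl | rfl | h7
      · refine cb _ _ 2 hB evm (by norm_num) (by norm_num) ?_
        exact Or.inr (Or.inr (Or.inr (Or.inr (Or.inr (Or.inr (Or.inr (Or.inr (Or.inr (Or.inl ⟨rfl, Or.inr (by
          rw [mul_comm]; exact Nat.mul_dvd_mul_left _ dm2)⟩)))))))))
      · refine cb _ _ 2 hB evm (by norm_num) (by norm_num) ?_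
        exact Or.inr (Or.inr (Or.inr (Or.inr (Or.inr (Or.inr (Or.inr (Or.inr (Or.inr (Or.inr (Or.inl ⟨rfl, Or.inr (by
          rw [mul_comm]; norm_num)⟩))))))))))
      · refine cb _ _ 1 hB evm (by rw [pow_one]; omega) (by rw [pow_one]; omega) ?_
        refine Or.inr (Or.inr (Or.inr (Or.inr (Or.inr (Or.inr (Or.inr (Or.inr (Or.inl ?_))))))))
        rw [pow_one, mul_comm]; exact Nat.mul_dvd_mul_left _ dm2
    · rcases hpc with rfl | rfl | h7
      · refine cb _ _ 2 hB evp (by norm_num) (by norm_num) ?_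
        exact Or.inr (Or.inr (Or.inr (Or.inr (Or.inr (Or.inr (Or.inr (Or.inr (Or.inr (Or.inl ⟨rfl, Or.inr (by
          rw [mul_comm]; exact Nat.mul_dvd_mul_left _ dp2)⟩)))))))))
      · refine cb _ _ 2 hB evp (by norm_num) (by norm_num) ?_
        exact Or.inr (Or.inr (Or.inr (Or.inr (Or.inr (Or.inr (Or.inr (Or.inr (Or.inr (Or.inr (Or.inl ⟨rfl, Or.inl (by
          rw [mul_comm]; norm_num)⟩))))))))))
      · refine cb _ _ 1 hB evp (by rw [pow_one]; omega) (by rw [pow_one]; omega) ?_
        refine Or.inr (Or.inr (Or.inr (Or.inr (Or.inr (Or.inr (Or.inr (Or.inr (Or.inl ?_))))))))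
        rw [pow_one, mul_comm]; exact Nat.mul_dvd_mul_left _ dp2
  · -- four elements
    right
    have hpc' : p = 3 ∨ 5 ≤ p := by omega
    rcases two hq hq0 hI hn with hB | hB
    · rcases hpc' with rfl | h7
      · refine cb _ _ 2 hB ev2 (by norm_num) (by norm_num) ?_
        exact Or.inr (Or.inr (Or.inr (Or.inr (Or.inr (Or.inr (Or.inr (Or.inr (Or.inr (Or.inl ⟨rfl, Or.inl (by
          rw [mul_comm]; norm_num)⟩)))))))))
      · refine cb _ _ 1 hB ev2 (by rw [pow_one]; omega) (by rw [pow_one]; omega) ?_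
        refine Or.inr (Or.inr (Or.inr (Or.inr (Or.inr (Or.inr (Or.inl ?_))))))
        rw [pow_one, mul_comm]; exact Nat.mul_dvd_mul_left _ d12
    · rcases hpc' with rfl | h7
      · refine cb _ _ 2 hB ev2' (by norm_num) (by norm_num) ?_
        exact Or.inr (Or.inr (Or.inr (Or.inr (Or.inr (Or.inr (Or.inr (Or.inr (Or.inr (Or.inl ⟨rfl, Or.inr (by
          rw [mul_comm]; norm_num)⟩)))))))))
      · refine cb _ _ 1 hB ev2' (by rw [pow_one]; omega) (by rw [pow_one]; omega) ?_
        refine Or.inr (Or.inr (Or.inr (Or.inr (Or.inr (Or.inr (Or.inr (Or.inr (Or.inl ?_))))))))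
        rw [pow_one, mul_comm]
  · -- six elements
    right
    have hp1 : 1 ≤ p ^ 1 := by rw [pow_one]; omega
    have hp3' : 3 ≤ p ^ 1 := by rw [pow_one]; omega
    have e1 : ∀ A : ℕ, A * p ^ 1 = p * A := fun A => by rw [pow_one, mul_comm]
    rcases three' hq hq0 he hI hn with hB | hB | hB | hB | hB
    · exact cb _ _ 1 hB ev3' hp1 (by omega) (Or.inr (Or.inr (Or.inr (Or.inr (Or.inr (Or.inl (by rw [e1])))))))
    · exact cb _ _ 1 hB ev3 hp1 (by omega) (Or.inr (Or.inr (Or.inr (Or.inr (Or.inl (by rw [e1]))))))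
    · exact cb _ _ 1 hB (ev2.mul_right _) hp1 (by omega)
        (Or.inr (Or.inr (Or.inr (Or.inr (Or.inr (Or.inr (Or.inl (by rw [e1]))))))))
    · exact cb _ _ 1 hB (ev2.mul_right _) hp1 (by omega)
        (Or.inr (Or.inr (Or.inr (Or.inr (Or.inr (Or.inr (Or.inr (Or.inl (by rw [e1])))))))))
    · exact cb _ _ 1 hB ev2' hp3' (by omega)
        (Or.inr (Or.inr (Or.inr (Or.inr (Or.inr (Or.inr (Or.inr (Or.inr (Or.inl (by rw [e1]))))))))))
  · -- eight elements
    have hp2' : 2 ≤ p ^ 1 := by rw [pow_one]; omega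
    have hp3' : 3 ≤ p ^ 1 := by rw [pow_one]; omega
    have e0 : ∀ A : ℕ, A * p ^ 0 = A := fun A => by rw [pow_zero, mul_one]
    have e1 : ∀ A : ℕ, A * p ^ 1 = p * A := fun A => by rw [pow_one, mul_comm]
    rcases four' hq hq0 he hI hn with hB | hB | hB | hB | hB | hB | hB | hB | hB | hB | hB | hB
    · exact Or.inl hB
    · right
      exact cb _ _ 0 hB ev3' le_rfl (by simp)
        (Or.inr (Or.inr (Or.inr (Or.inr (Or.inr (Or.inl (by rw [e0]; exact Dvd.intro_left _ rfl)))))))
    · right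
      exact cb _ _ 0 hB ev3 le_rfl (by simp)
        (Or.inr (Or.inr (Or.inr (Or.inr (Or.inl (by rw [e0]; exact Dvd.intro_left _ rfl))))))
    · right
      exact cb _ _ 0 hB (ev3.mul_right _) le_rfl (by simp) (Or.inr (Or.inr (Or.inl (by rw [e0]))))
    · right
      exact cb _ _ 0 hB (ev3'.mul_right _) le_rfl (by simp) (Or.inr (Or.inr (Or.inr (Or.inl (by rw [e0])))))
    · right
      exact cb _ _ 0 hB ev4 le_rfl (by simp) (Or.inr (Or.inl (by rw [e0])))
    · right
      exact cb _ _ 1 hB ev2 hp2' (by omega)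
        (Or.inr (Or.inr (Or.inr (Or.inr (Or.inr (Or.inr (Or.inl (by rw [e1]; exact Nat.mul_dvd_mul_left _ d12))))))))
    · right
      exact cb _ _ 1 hB (ev2.mul_right _) hp2' (by omega)
        (Or.inr (Or.inr (Or.inr (Or.inr (Or.inr (Or.inr (Or.inl (by rw [e1]))))))))
    · right
      exact cb _ _ 1 hB (ev2.mul_right _) hp2' (by omega)
        (Or.inr (Or.inr (Or.inr (Or.inr (Or.inr (Or.inr (Or.inr (Or.inl (by rw [e1])))))))))
    · right
      exact cb _ _ 1 hB ev2' hp3' (by omega)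
        (Or.inr (Or.inr (Or.inr (Or.inr (Or.inr (Or.inr (Or.inr (Or.inr (Or.inl (by rw [e1]))))))))))
    · right
      have hpc' : p = 3 ∨ 5 ≤ p := by omega
      rcases hpc' with rfl | h7
      · refine cb _ _ 2 hB evm (by norm_num) (by norm_num) ?_
        exact Or.inr (Or.inr (Or.inr (Or.inr (Or.inr (Or.inr (Or.inr (Or.inr (Or.inr (Or.inl ⟨rfl, Or.inr (by
          rw [mul_comm]; exact Nat.mul_dvd_mul_left _ dm2)⟩)))))))))
      · refine cb _ _ 1 hB evm (by rw [pow_one]; omega) (by rw [pow_one]; omega) ?_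
        refine Or.inr (Or.inr (Or.inr (Or.inr (Or.inr (Or.inr (Or.inr (Or.inr (Or.inl ?_))))))))
        rw [pow_one, mul_comm]; exact Nat.mul_dvd_mul_left _ dm2
    · right
      have hpc' : p = 3 ∨ 5 ≤ p := by omega
      rcases hpc' with rfl | h7
      · refine cb _ _ 2 hB evp (by norm_num) (by norm_num) ?_
        exact Or.inr (Or.inr (Or.inr (Or.inr (Or.inr (Or.inr (Or.inr (Or.inr (Or.inr (Or.inl ⟨rfl, Or.inr (by
          rw [mul_comm]; exact Nat.mul_dvd_mul_left _ dp2)⟩)))))))))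
      · refine cb _ _ 1 hB evp (by rw [pow_one]; omega) (by rw [pow_one]; omega) ?_
        refine Or.inr (Or.inr (Or.inr (Or.inr (Or.inr (Or.inr (Or.inr (Or.inr (Or.inl ?_))))))))
        rw [pow_one, mul_comm]; exact Nat.mul_dvd_mul_left _ dp2

end

end Cfsg.Agent.H202.T
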