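import Cfsg.Agent.H202.T.Num
import Cfsg.Agent.H376.Odd8Sp
import Cfsg.Agent.H377.SpElt
import Cfsg.Agent.H377.OddThree
import Cfsg.Agent.H377.Elt
import Cfsg.Agent.S0245
import Cfsg.Agent.S0246
import Cfsg.Agent.S0292

/-!
# Block T: lower bounds for the spectra of `PSp₈(q)`, `Ω₉(q)`, `q` odd (helper202)
-/

set_option autoImplicit false
set_option linter.unusedSectionVars false

namespace Cfsg.Agent.H202.T

open Cfsg.Agent.H376.Odd8 Cfsg.Agent.H376.SpEmb

section

variable {F : Type*} [Field F] [Fintype F]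

/-- `p` times the order of a symplectic matrix of smaller size -/
theorem exists_char_mul (hF : Odd (Fintype.card F)) (p : ℕ) [hp : Fact p.Prime] [CharP F p] {a b N : ℕ} (hb : 1 ≤ b)
    (A : Matrix.symplecticGroup (Fin a) F) (hA : orderOf A = N) (hN : ¬ p ∣ N) :
    ∃ x : Cfsg.PSp (a + b) F, orderOf x = p * N := by
  classical
  obtain ⟨p', hp', hp2', hcp, h2, hpF⟩ := exists_char hF
  obtain rfl : p = p' := CharP.eq F ‹CharP F p› hcp
  have hpo := hp'.odd_of_ne_two hp2'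
  have h1 : (1 : F) ≠ -1 := by
    intro h
    apply h2
    have : (1 : F) + 1 = 0 := by rw [eq_neg_iff_add_eq_zero] at h; exact h
    rw [← this]; norm_num
  obtain ⟨B, hB⟩ := exists_prime_orderOf_dvd_card' (G := Matrix.symplecticGroup (Fin b) F) p
    (by
      rw [LieClassical.SympCount.card_symplecticGroup]
      apply Dvd.dvd.mul_right
      exact dvd_pow hpF (pow_ne_zero _ (by omega)))
  obtain ⟨φ, hφ, hφ1⟩ := exists_phi (F := F) (show a + b = a + b from rfl)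
  have hcop : Nat.Coprime N p := ((Nat.Prime.coprime_iff_not_dvd hp').2 hN).symm
  have hord : orderOf (φ (A, B)) = p * N := by
    rw [orderOf_injective _ hφ, Prod.orderOf_mk, hA, hB, mul_comm]
    exact hcop.lcm_eq_mul
  refine ⟨QuotientGroup.mk (φ (A, B)), ?_⟩
  apply Nat.dvd_antisymm
  · rw [← hord]
    exact orderOf_map_dvd (QuotientGroup.mk' _) _
  · rw [← hord]
    apply orderOf_dvd_of_pow_eq_one
    set d := orderOf (QuotientGroup.mk (φ (A, B)) : Cfsg.PSp (a + b) F) with hd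
    have h3 : φ (A, B) ^ d ∈ Subgroup.center (Matrix.symplecticGroup (Fin (a + b)) F) := by
      rw [← QuotientGroup.eq_one_iff, QuotientGroup.mk_pow, hd, pow_orderOf_eq_one]
    rcases ClassicalGeometry.SympInvolutions.center_eq h3 with h4 | h4
    · exact Subtype.ext h4
    · exfalso
      rw [← map_pow] at h4
      have h5 := (hφ1 _ h4).2
      have h6 : (B ^ d).1 = -1 := h5
      have h7 : ((B ^ d) ^ p).1 = 1 := by
        rw [← pow_mul, mul_comm, pow_mul, ← hB, pow_orderOf_eq_one, one_pow]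
        rfl
      have h8 : ((B ^ d) ^ p).1 = (B ^ d).1 ^ p := rfl
      rw [h8, h6, hpo.neg_one_pow] at h7
      have h9 := congrFun (congrFun h7 (Sum.inl ⟨0, by omega⟩)) (Sum.inl ⟨0, by omega⟩)
      rw [Matrix.neg_apply, Matrix.one_apply_eq] at h9
      exact h1 h9.symm

theorem p_dvd (p : ℕ) [hp : Fact p.Prime] [CharP F p] : p ∣ Fintype.card F := by
  obtain ⟨n, -, hn⟩ := FiniteField.card F p
  rw [hn]
  exact dvd_pow_self p n.2.ne'

/-- `p (q³ + 1)` is an element order of `PSp₈(q)` -/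
theorem sp_add (hF : Odd (Fintype.card F)) (p : ℕ) [hp : Fact p.Prime] [CharP F p] :
    ∃ x : Cfsg.PSp 4 F, orderOf x = p * (Fintype.card F ^ 3 + 1) := by
  obtain ⟨A, hA⟩ := exists_plus F 3 (by norm_num)
  rw [Nat.card_eq_fintype_card] at hA
  refine exists_char_mul (a := 3) (b := 1) hF p le_rfl A hA fun h => ?_
  have h1 : p ∣ 1 := (Nat.dvd_add_right (dvd_pow (p_dvd (F := F) p) (by norm_num : 3 ≠ 0))).1 h
  exact hp.out.one_lt.ne' (Nat.dvd_one.1 h1)

/-- `p (q³ - 1)` is an element order of `PSp₈(q)` -/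
theorem sp_sub (hF : Odd (Fintype.card F)) (p : ℕ) [hp : Fact p.Prime] [CharP F p] :
    ∃ x : Cfsg.PSp 4 F, orderOf x = p * (Fintype.card F ^ 3 - 1) := by
  obtain ⟨A, hA⟩ := exists_minus F 3 (by norm_num)
  rw [Nat.card_eq_fintype_card] at hA
  refine exists_char_mul (a := 3) (b := 1) hF p le_rfl A hA fun h => ?_
  have h2 : 1 ≤ Fintype.card F ^ 3 := Nat.one_le_pow _ _ Fintype.card_pos
  have h3 : p ∣ Fintype.card F ^ 3 := dvd_pow (p_dvd (F := F) p) (by norm_num : 3 ≠ 0)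
  have h4 := Nat.dvd_sub h3 h
  rw [show Fintype.card F ^ 3 - (Fintype.card F ^ 3 - 1) = 1 by omega] at h4
  exact hp.out.one_lt.ne' (Nat.dvd_one.1 h4)

/-- `(q⁴ + 1) / 2` is an element order of `PSp₈(q)` -/
theorem sp_mm (hF : Odd (Fintype.card F)) : ∃ x : Cfsg.PSp 4 F, orderOf x = mm (Fintype.card F) := by
  have h8 := mm_mod hF
  refine H377.exists_psp_tor_minus (by norm_num) (by omega) (Or.inr ?_)
  rw [Nat.card_eq_fintype_card, two_mm hF]

/-- `(q⁴ + 1) / 2` is an element order of `Ω₉(q)` -/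
theorem oodd_mm (hF : Odd (Fintype.card F)) :
    ∃ x : Cfsg.POmega F (Cfsg.quadFormOdd 4 F), orderOf x = mm (Fintype.card F) := by
  refine H377.OOdd.exists_even_tor (by rwa [Nat.card_eq_fintype_card]) (by norm_num) (ε := -1)
    (H377.elt_tor_minus (by norm_num) ?_)
  rw [Nat.card_eq_fintype_card, two_mm hF]

theorem dvd_prod {q r : ℕ} (h : r ∣ q ^ 2 + 1 ∨ r ∣ q ^ 2 + q + 1 ∨ r ∣ q ^ 2 - q + 1) (hq : 1 ≤ q) :
    r ∣ q ^ (4 ^ 2) * ∏ i ∈ Finset.range 4, (q ^ (2 * (i + 1)) - 1) := by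
  have h6 : q ^ 6 - 1 = (q ^ 3 - 1) * (q ^ 3 + 1) := by
    have := Nat.sq_sub_sq (q ^ 3) 1
    rw [← pow_mul, mul_comm (q ^ 3 + 1)] at this
    simpa using this
  have h4 : q ^ 4 - 1 = (q ^ 2 + 1) * (q ^ 2 - 1) := by
    have := Nat.sq_sub_sq (q ^ 2) 1
    rw [← pow_mul] at this
    simpa using this
  rcases h with h | h | h
  · refine (h.trans ?_).trans (dvd_mul_left _ _)
    refine Dvd.dvd.trans ?_ (Finset.dvd_prod_of_mem _ (Finset.mem_range.2 (by norm_num : 1 < 4)))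
    change q ^ 2 + 1 ∣ q ^ 4 - 1
    rw [h4]; exact Dvd.intro _ rfl
  · refine (h.trans ?_).trans (dvd_mul_left _ _)
    refine Dvd.dvd.trans ?_ (Finset.dvd_prod_of_mem _ (Finset.mem_range.2 (by norm_num : 2 < 4)))
    change q ^ 2 + q + 1 ∣ q ^ 6 - 1
    rw [h6, cube_sub_eq hq]
    exact ⟨(q - 1) * (q ^ 3 + 1), by ring⟩
  · refine (h.trans ?_).trans (dvd_mul_left _ _)
    refine Dvd.dvd.trans ?_ (Finset.dvd_prod_of_mem _ (Finset.mem_range.2 (by norm_num : 2 < 4)))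
    change q ^ 2 - q + 1 ∣ q ^ 6 - 1
    rw [h6, cube_add_eq hq]
    have : q ^ 2 - q = q * (q - 1) := by rw [Nat.mul_sub, mul_one, pow_two]
    rw [this]
    exact ⟨(q ^ 3 - 1) * (q + 1), by ring⟩

/-- the primes of the coclique divide the order of `PSp₈(q)` -/
theorem sp_dvd {r : ℕ} (hr : r.Prime) (hr2 : r ≠ 2)
    (h : r ∣ Fintype.card F ^ 2 + 1 ∨ r ∣ Fintype.card F ^ 2 + Fintype.card F + 1 ∨
      r ∣ Fintype.card F ^ 2 - Fintype.card F + 1) : r ∣ Nat.card (Cfsg.PSp 4 F) := by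
  have h1 := dvd_prod h Fintype.card_pos
  have h2 : Nat.card (Matrix.symplecticGroup (Fin 4) F) =
      Nat.card (Cfsg.PSp 4 F) * Nat.card (Subgroup.center (Matrix.symplecticGroup (Fin 4) F)) :=
    Subgroup.card_eq_card_quotient_mul_card_subgroup _
  rw [← S0245.result (F := F) rfl 4, h2] at h1
  rcases hr.dvd_mul.1 h1 with h3 | h3
  · exact h3
  · exfalso
    rw [S0246.result (F := F) rfl 4 (by norm_num)] at h3
    exact hr2 ((Nat.prime_dvd_prime_iff_eq hr Nat.prime_two).1 (h3.trans (Nat.gcd_dvd_left _ _)))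

/-- the primes of the coclique divide the order of `Ω₉(q)` -/
theorem oodd_dvd (hF : Odd (Fintype.card F)) {r : ℕ} (hr : r.Prime) (hr2 : r ≠ 2)
    (h : r ∣ Fintype.card F ^ 2 + 1 ∨ r ∣ Fintype.card F ^ 2 + Fintype.card F + 1 ∨
      r ∣ Fintype.card F ^ 2 - Fintype.card F + 1) : r ∣ Nat.card (Cfsg.POmega F (Cfsg.quadFormOdd 4 F)) := by
  have h1 := dvd_prod h Fintype.card_pos
  rw [← S0292.result (F := F) rfl hF 4 (by norm_num)] at h1
  rcases hr.dvd_mul.1 h1 with h3 | h3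
  · exact absurd ((Nat.prime_dvd_prime_iff_eq hr Nat.prime_two).1 h3) hr2
  · exact h3

end

end Cfsg.Agent.H202.T
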