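import Cfsg.Agent.H202.T.FrameMain
import Cfsg.Agent.H202.T.UpSp
import Cfsg.Agent.H202.T.Low
import Cfsg.Agent.H104.UpNine

/-!
# Block T (S3537): `GHyp` for the groups isospectral to `PSp₈(q)`, `Ω₉(q)` (helper202)
-/

set_option autoImplicit false
set_option linter.unusedSectionVars false

namespace Cfsg.Agent.H202.T

theorem exists_of_range {L G : Type*} [Group L] [Group G]
    (h : Set.range (orderOf : G → ℕ) = Set.range (orderOf : L → ℕ)) (n : ℕ) :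
    (∃ x : G, orderOf x = n) ↔ ∃ x : L, orderOf x = n := by
  have := Set.ext_iff.1 h n
  exact this

theorem GHyp.of_spec {p q : ℕ} {L G : Type*} [Group L] [Finite L] [Group G] [Finite G] (hL : GHyp p q L)
    (h : Set.range (orderOf : G → ℕ) = Set.range (orderOf : L → ℕ)) : GHyp p q G := by
  have hd : ∀ r : ℕ, r.Prime → r ∣ Nat.card L → r ∣ Nat.card G := by
    intro r hr hd
    have hr' := Fact.mk hr
    obtain ⟨x, hx⟩ := exists_prime_orderOf_dvd_card' r hd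
    obtain ⟨y, hy⟩ := (exists_of_range h r).2 ⟨x, hx⟩
    rw [← hy]
    exact orderOf_dvd_natCard y
  refine ⟨hL.prime, hL.ne_two, hL.pow, ?_, ?_, ?_, ?_, ?_⟩
  · intro x
    obtain ⟨y, hy⟩ := (exists_of_range h (orderOf x)).1 ⟨x, rfl⟩
    rw [← hy]
    exact hL.om y
  · exact (exists_of_range h _).2 hL.mem
  · exact fun r hr hr2 hd' => hd r hr (hL.d3 r hr hr2 hd')
  · exact fun r hr hr2 hd' => hd r hr (hL.d6 r hr hr2 hd')
  · exact fun r hr hr2 hd' => hd r hr (hL.d4 r hr hr2 hd')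

theorem GHyp.congr {p q : ℕ} {L G : Type*} [Group L] [Group G] (hL : GHyp p q L) (e : L ≃* G) : GHyp p q G := by
  refine ⟨hL.prime, hL.ne_two, hL.pow, ?_, ?_, ?_, ?_, ?_⟩
  · intro x
    rw [← MulEquiv.orderOf_eq e.symm x]
    exact hL.om _
  · obtain ⟨x, hx⟩ := hL.mem
    exact ⟨e x, by rw [MulEquiv.orderOf_eq, hx]⟩
  · rw [← Nat.card_congr e.toEquiv]; exact hL.d3
  · rw [← Nat.card_congr e.toEquiv]; exact hL.d6
  · rw [← Nat.card_congr e.toEquiv]; exact hL.d4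

variable {F : Type*} [Field F] [Fintype F]

theorem char_facts (hodd : Odd (Fintype.card F)) (p : ℕ) [hp : Fact p.Prime] [CharP F p] :
    p.Prime ∧ p ≠ 2 ∧ ∃ f, 1 ≤ f ∧ Fintype.card F = p ^ f := by
  obtain ⟨n, -, hn⟩ := FiniteField.card F p
  refine ⟨hp.out, ?_, n, n.2, hn⟩
  rintro rfl
  rw [hn] at hodd
  exact (Nat.not_even_iff_odd.2 hodd) (even_iff_two_dvd.2 (dvd_pow_self 2 n.ne_zero))

theorem ghyp_sp (hodd : Odd (Fintype.card F)) (p : ℕ) [hp : Fact p.Prime] [CharP F p] :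
    GHyp p (Fintype.card F) (Cfsg.PSp 4 F) := by
  obtain ⟨h1, h2, h3⟩ := char_facts hodd p
  exact ⟨h1, h2, h3, fun x => up_sp hodd x, sp_mm hodd, fun r hr hr2 hd => sp_dvd hr hr2 (Or.inr (Or.inl hd)),
    fun r hr hr2 hd => sp_dvd hr hr2 (Or.inr (Or.inr hd)), fun r hr hr2 hd => sp_dvd hr hr2 (Or.inl hd)⟩

theorem ghyp_oodd (hodd : Odd (Fintype.card F)) (p : ℕ) [hp : Fact p.Prime] [CharP F p] :
    GHyp p (Fintype.card F) (Cfsg.POmega F (Cfsg.quadFormOdd 4 F)) := by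
  obtain ⟨h1, h2, h3⟩ := char_facts hodd p
  exact ⟨h1, h2, h3, fun x => H104.UpNine.up9 hodd x, oodd_mm hodd,
    fun r hr hr2 hd => oodd_dvd hodd hr hr2 (Or.inr (Or.inl hd)),
    fun r hr hr2 hd => oodd_dvd hodd hr hr2 (Or.inr (Or.inr hd)), fun r hr hr2 hd => oodd_dvd hodd hr hr2 (Or.inl hd)⟩

end Cfsg.Agent.H202.T
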